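import Cfsg.Agent.Lib.ZD.Sq

/-! Superseded: the type 3 part of Lemma A of Theorem ZD is `Sit.big3'` in `Lib.ZD.LemAa`. -/
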